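import Cfsg.Agent.TwoAlt.Centralizer
import Cfsg.Agent.JankoOrder.TableOfData
import Cfsg.Agent.JankoOrder.Excluded
import Cfsg.Agent.S4274
import Cfsg.Agent.S1644

/-!
An involution centralizer `2 × A₅` without a subgroup of index two: Janko's group.
-/

set_option autoImplicit false
set_option linter.style.haveILetI false

namespace CfsgLib.TwoAlt

open Subgroup

universe u

variable {G : Type u} [Group G] [Finite G]

theorem alt_five_involution : ∃ x : alternatingGroup (Fin 5), x * x = 1 ∧ x ≠ 1 :=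
  ⟨⟨Equiv.swap 0 1 * Equiv.swap 2 3, by
    rw [Equiv.Perm.mem_alternatingGroup, map_mul, Equiv.Perm.sign_swap (by decide), Equiv.Perm.sign_swap (by decide)]
    rfl⟩, by decide +kernel, by decide +kernel⟩

theorem exists_equiv {J : G} {T : Subgroup G} (h : Split J T) (e : T ≃* alternatingGroup (Fin 5)) :
    Nonempty (centralizer ({J} : Set G) ≃* Multiplicative (ZMod 2) × alternatingGroup (Fin 5)) := by
  have hJC : J ∈ centralizer ({J} : Set G) := h.prod.1 (mem_zpowers J)
  let f : Multiplicative (ZMod 2) × alternatingGroup (Fin 5) → centralizer ({J} : Set G) := fun p =>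
    ⟨(if p.1 = 1 then 1 else J) * (e.symm p.2 : G), by
      refine mul_mem ?_ (h.prod.2.1 (e.symm p.2).2)
      split_ifs
      · exact one_mem _
      · exact hJC⟩
  have hε : ∀ x : Multiplicative (ZMod 2), x = 1 ∨ x = Multiplicative.ofAdd 1 := by decide
  have hd : ¬ (Multiplicative.ofAdd (1 : ZMod 2) = 1) := by decide
  have hdd : Multiplicative.ofAdd (1 : ZMod 2) * Multiplicative.ofAdd 1 = 1 := by decide
  let fh : Multiplicative (ZMod 2) × alternatingGroup (Fin 5) →* centralizer ({J} : Set G) :=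
    { toFun := f
      map_one' := Subtype.ext (by simp [f])
      map_mul' := by
        rintro ⟨a, x⟩ ⟨b, y⟩
        refine Subtype.ext ?_
        have hx := h.comm (e.symm x).2
        show (if a * b = 1 then (1 : G) else J) * ((e.symm (x * y) : T) : G) =
          (if a = 1 then (1 : G) else J) * (e.symm x : G) * ((if b = 1 then (1 : G) else J) * (e.symm y : G))
        rw [map_mul, Subgroup.coe_mul]
        rcases hε a with rfl | rfl <;> rcases hε b with rfl | rfl
        · simp
        · simp only [one_mul, if_neg hd, if_true]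
          rw [← mul_assoc, ← hx, mul_assoc]
        · simp only [mul_one, if_neg hd, if_true, one_mul]
          rw [mul_assoc]
        · simp only [hdd, if_true, if_neg hd, one_mul]
          calc (e.symm x : G) * (e.symm y : G) = (J * J) * ((e.symm x : G) * (e.symm y : G)) := by
                rw [h.sq, one_mul]
          _ = J * (J * (e.symm x : G)) * (e.symm y : G) := by group
          _ = J * ((e.symm x : G) * J) * (e.symm y : G) := by rw [hx]
          _ = J * (e.symm x : G) * (J * (e.symm y : G)) := by group }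
  refine ⟨(MulEquiv.ofBijective fh ⟨?_, ?_⟩).symm⟩
  · rw [injective_iff_map_eq_one]
    rintro ⟨a, x⟩ hax
    have hv : (if a = 1 then (1 : G) else J) * (e.symm x : G) = 1 := congrArg Subtype.val hax
    rcases hε a with rfl | rfl
    · rw [if_pos rfl, one_mul] at hv
      rw [e.symm.map_eq_one_iff.mp (Subtype.ext hv)]
      rfl
    · rw [if_neg hd] at hv
      refine absurd ?_ h.not_mem
      rw [eq_inv_of_mul_eq_one_left hv]
      exact inv_mem (e.symm x).2
  · rintro ⟨c, hc⟩
    obtain ⟨x, hx, rfl | rfl⟩ := h.split (mem_centralizer_singleton_iff.mp hc)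
    · exact ⟨(1, e ⟨c, hx⟩), Subtype.ext (by show (if (1 : Multiplicative (ZMod 2)) = 1 then (1 : G) else J) * (e.symm (e ⟨c, hx⟩) : G) = c; simp)⟩
    · refine ⟨(Multiplicative.ofAdd 1, e ⟨x, hx⟩), Subtype.ext ?_⟩
      show (if Multiplicative.ofAdd (1 : ZMod 2) = 1 then (1 : G) else J) * (e.symm (e ⟨x, hx⟩) : G) = J * x
      rw [if_neg hd, MulEquiv.symm_apply_apply]

theorem isoJ1_of_split {J : G} {T : Subgroup G} (h : Split J T) (hJ : Cfsg.IsTwoCentralInvolution J)
    (e : T ≃* alternatingGroup (Fin 5)) (h2 : ∀ N : Subgroup G, N.Normal → N.index ≠ 2) : Cfsg.Spor.IsoJ1 G := by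
  classical
  letI := Fintype.ofFinite G
  haveI : Fact (Nat.Prime 2) := ⟨Nat.prime_two⟩
  haveI : Fact (Nat.Prime 19) := ⟨by norm_num⟩
  obtain ⟨eC⟩ := exists_equiv h e
  have hG : ∀ H : Subgroup G, H.index ≠ 2 := fun H hH => h2 H (normal_of_index_eq_two hH) hH
  obtain ⟨D, -⟩ := CfsgLib.JankoOrder.exists_data hG J hJ eC
  have hN : Nat.card G = 175560 := D.order_cases.resolve_right D.card_ne_excluded
  have hC120 : Nat.card (centralizer ({J} : Set G)) = 120 := by
    rw [Nat.card_congr eC.toEquiv, Nat.card_eq_fintype_card, CfsgLib.JankoOrder.card_Cen]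
  have hs : IsSimpleGroup G := by
    refine (Cfsg.Agent.S4274.result hN).resolve_right fun hall => ?_
    obtain ⟨Q⟩ : Nonempty (Sylow 19 G) := inferInstance
    have hQn := hall Q
    have hQ : Nat.card (Q : Subgroup G) = 19 := by
      rw [Q.card_eq_multiplicity, hN, show (175560 : ℕ) = 19 ^ 1 * 9240 by norm_num,
        Nat.factorization_mul (by norm_num) (by norm_num), Finsupp.add_apply,
        Nat.Prime.factorization_pow (by norm_num), Finsupp.single_eq_same,
        Nat.factorization_eq_zero_of_not_dvd (by norm_num : ¬ 19 ∣ 9240)]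
      norm_num
    have hinv : ∀ w : G, w * w = 1 → w ≠ 1 → ∀ k ∈ (Q : Subgroup G), w * k * w = k⁻¹ := by
      intro w hw hw1 k hk
      have wi : w⁻¹ = w := inv_eq_of_mul_eq_one_right hw
      have hfix : ∀ z ∈ (Q : Subgroup G), z * w = w * z → z = 1 := by
        intro z hz hzw
        obtain ⟨c, hc⟩ := isConj_iff.mp (D.oneClass w hw hw1)
        obtain ⟨k', hk'⟩ := D.cent (c⁻¹ * z * c) (by
          calc c⁻¹ * z * c * D.φ CfsgLib.JankoOrder.tK = c⁻¹ * (z * (c * D.φ CfsgLib.JankoOrder.tK * c⁻¹)) * c := by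
                group
          _ = c⁻¹ * ((c * D.φ CfsgLib.JankoOrder.tK * c⁻¹) * z) * c := by rw [hc, hzw]
          _ = D.φ CfsgLib.JankoOrder.tK * (c⁻¹ * z * c) := by group)
        have d1 : orderOf z ∣ 19 := hQ ▸ Subgroup.orderOf_dvd_natCard _ hz
        have d2 : orderOf z ∣ 120 := by
          have h1 : orderOf (c⁻¹ * z * c) = orderOf z := by
            rw [show c⁻¹ * z * c = c⁻¹ * z * c⁻¹⁻¹ by rw [inv_inv]]
            exact orderOf_injective (MulAut.conj c⁻¹).toMonoidHom (MulAut.conj c⁻¹).injective z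
          rw [← h1, ← hk', orderOf_injective D.φ D.inj]
          exact CfsgLib.JankoOrder.card_Cen ▸ orderOf_dvd_card
        exact orderOf_eq_one_iff.mp (Nat.dvd_one.mp (Nat.dvd_gcd d1 d2))
      let f : ↥(Q : Subgroup G) → ↥(Q : Subgroup G) := fun x => ⟨(x : G)⁻¹ * (w * x * w), mul_mem (inv_mem x.2) (by
        have := hQn.conj_mem _ x.2 w
        rwa [wi] at this)⟩
      have hf : Function.Injective f := by
        intro x y hxy
        have h' : (x : G)⁻¹ * (w * x * w) = (y : G)⁻¹ * (w * y * w) := congrArg Subtype.val hxy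
        refine Subtype.ext (mul_inv_eq_one.mp (hfix _ (mul_mem y.2 (inv_mem x.2)) ?_)).symm
        calc ((y : G) * (x : G)⁻¹) * w = (y : G) * ((x : G)⁻¹ * (w * x * w)) * w⁻¹ * (x : G)⁻¹ := by group
        _ = (y : G) * ((y : G)⁻¹ * (w * y * w)) * w⁻¹ * (x : G)⁻¹ := by rw [h']
        _ = w * ((y : G) * (x : G)⁻¹) := by group
      obtain ⟨x, hx⟩ := Finite.injective_iff_surjective.mp hf ⟨k, hk⟩
      have hx' : (x : G)⁻¹ * (w * x * w) = k := congrArg Subtype.val hx
      rw [← hx']
      calc w * ((x : G)⁻¹ * (w * x * w)) * w = (w * (x : G)⁻¹ * w⁻¹) * (w * w) * x * (w * w) := by group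
      _ = w * (x : G)⁻¹ * w⁻¹ * x := by rw [hw, mul_one, mul_one]
      _ = ((x : G)⁻¹ * (w * x * w))⁻¹ := by rw [mul_inv_rev, mul_inv_rev, mul_inv_rev, inv_inv, wi]; group
    obtain ⟨b0, hb2, hb1⟩ := alt_five_involution
    set b : G := ((e.symm b0 : T) : G) with hb
    have hbT : b ∈ T := (e.symm b0).2
    have hbb : b * b = 1 := by rw [hb, ← Subgroup.coe_mul, ← map_mul, hb2, map_one, OneMemClass.coe_one]
    have hbne : b ≠ 1 := fun e' => hb1 (e.symm.map_eq_one_iff.mp (Subtype.ext e'))
    have hcb := h.comm hbT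
    have hJb2 : J * b * (J * b) = 1 := by
      calc J * b * (J * b) = J * (b * J) * b := by group
      _ = (J * J) * (b * b) := by rw [hcb]; group
      _ = 1 := by rw [h.sq, hbb, one_mul]
    have hJb1 : J * b ≠ 1 := fun e' => h.not_mem (by
      rw [eq_inv_of_mul_eq_one_left e']; exact inv_mem hbT)
    haveI : Nontrivial (Q : Subgroup G) := Finite.one_lt_card_iff_nontrivial.mp (by rw [hQ]; norm_num)
    obtain ⟨⟨k, hk⟩, hk1⟩ := exists_ne (1 : (Q : Subgroup G))
    have h1 := hinv _ hJb2 hJb1 k hk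
    have h3 : J * b * k * (J * b) = k := by
      calc J * b * k * (J * b) = J * b * k * (b * J) := by rw [hcb]
      _ = J * (b * k * b) * J := by group
      _ = k := by rw [hinv b hbb hbne k hk, hinv J h.sq h.ne k⁻¹ (inv_mem hk), inv_inv]
    rw [h3] at h1
    have h4 : orderOf k ∣ 2 := orderOf_dvd_of_pow_eq_one (by
      rw [pow_two]; nth_rw 1 [h1]; exact inv_mul_cancel k)
    have h5 : orderOf k ∣ 19 := hQ ▸ Subgroup.orderOf_dvd_natCard _ hk
    exact hk1 (Subtype.ext (orderOf_eq_one_iff.mp (Nat.dvd_one.mp (Nat.dvd_gcd h4 h5))))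
  obtain ⟨hJ2, P, hJP, hP⟩ := hJ
  have hP8 : Nat.card (P : Subgroup G) = 8 := by
    rw [P.card_eq_multiplicity, hN, show (175560 : ℕ) = 2 ^ 3 * 21945 by norm_num,
      Nat.factorization_mul (by norm_num) (by norm_num), Finsupp.add_apply,
      Nat.Prime.factorization_pow (by norm_num), Finsupp.single_eq_same,
      Nat.factorization_eq_zero_of_not_dvd (by norm_num : ¬ 2 ∣ 21945)]
    norm_num
  haveI hPc : IsMulCommutative (P : Subgroup G) := ⟨⟨fun a b => by
    have hsq : ∀ x : (P : Subgroup G), x * x = 1 := fun x => Subtype.ext (D.exp_two _ 3 (by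
      have := congrArg Subtype.val (pow_card_eq_one' (x := x))
      rw [hP8] at this
      simpa using this))
    have hi : ∀ x : (P : Subgroup G), x⁻¹ = x := fun x => inv_eq_of_mul_eq_one_right (hsq x)
    calc a * b = (a * b)⁻¹ := (hi _).symm
    _ = b⁻¹ * a⁻¹ := mul_inv_rev a b
    _ = b * a := by rw [hi, hi]⟩⟩
  exact Cfsg.Agent.S1644.result P hPc hP8 J hJ2 eC

end CfsgLib.TwoAlt
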