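import Cfsg.Agent.TwoAlt.Identify

/-!
A group of order 1512 with an involution centralizer `2 × A₄` and no subgroup of index two is `Aut PSL(2,8)`.
-/

set_option autoImplicit false
set_option linter.style.haveILetI false
set_option linter.unusedSectionVars false

namespace CfsgLib.TwoAlt

open Subgroup

universe u

variable {G : Type u} [Group G] [Finite G]

namespace Four

variable {F : Four G} (C : F.Coords)

/-- the subgroup generated by the three coordinate elements -/
def Coords.H : Subgroup G := closure {C.p, C.a, C.t}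

theorem permY_shape : permY 2 0 = 0 ∧ permY 2 1 = 1 ∧ Function.Injective permP ∧ Function.Injective permA ∧
    Function.Injective permT := by
  refine ⟨by decide, by decide, ?_, ?_, ?_⟩ <;> intro i j <;> revert i j <;> decide +kernel

include C in
theorem H_preserves {g : G} (hg : g ∈ C.H) :
    ∃ σ : Fin 9 → Fin 9, Preserves σ ∧ Function.Bijective σ ∧ ∀ i, g • C.φ i = C.φ (σ i) := by
  induction hg using closure_induction with
  | mem x hx =>
    obtain rfl | rfl | rfl := hx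
    · exact ⟨permP, preserves_P, Finite.injective_iff_bijective.mp permY_shape.2.2.1, C.act_p⟩
    · exact ⟨permA, preserves_A, Finite.injective_iff_bijective.mp permY_shape.2.2.2.1, C.act_a⟩
    · exact ⟨permT, preserves_T, Finite.injective_iff_bijective.mp permY_shape.2.2.2.2, C.act_t⟩
  | one => exact ⟨id, preserves_id, Function.bijective_id, fun i => one_smul G _⟩
  | mul x y _ _ hx hy =>
    obtain ⟨σ, h1, h2, h3⟩ := hx
    obtain ⟨τ, k1, k2, k3⟩ := hy
    exact ⟨σ ∘ τ, h1.comp k1 k2.1, h2.comp k2, fun i => by rw [mul_smul, k3, h3]; rfl⟩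
  | inv x _ hx =>
    obtain ⟨σ, h1, h2, h3⟩ := hx
    obtain ⟨τ, hl, hr⟩ := Function.bijective_iff_has_inverse.mp h2
    refine ⟨τ, h1.inverse hr, Function.bijective_iff_has_inverse.mpr ⟨σ, hr, hl⟩, fun i => ?_⟩
    rw [inv_smul_eq_iff, h3, hr]

theorem H_ne_top : C.H ≠ ⊤ := by
  intro h
  obtain ⟨σ, h1, -, h3⟩ := H_preserves C (g := C.y) (by rw [h]; exact mem_top _)
  have he : σ = permY C.r := funext fun i => C.bij.1 ((h3 i).symm.trans (C.act_y i))
  subst he
  have h4 := h1 0 1 2 3 (by decide) (by decide) (by decide) (by decide) (by decide) (by decide)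
  rcases C.hr with e | e <;> rw [e] at h4
  · exact not_preserves_Y.1 h4
  · exact not_preserves_Y.2 h4

theorem S_le_H : (F.S : Subgroup G) ≤ C.H := by
  intro b hb
  by_cases hb1 : b = 1
  · rw [hb1]; exact one_mem _
  obtain ⟨i, rfl⟩ := C.gen b hb hb1
  have hp : C.p ∈ C.H := subset_closure (by simp)
  exact mul_mem (mul_mem (pow_mem hp i) (subset_closure (by simp))) (inv_mem (pow_mem hp i))

theorem card_H : 504 ≤ Nat.card C.H := by
  have hp : C.p ∈ C.H := subset_closure (by simp)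
  have ha : C.a ∈ C.H := subset_closure (by simp)
  have ht : C.t ∈ C.H := subset_closure (by simp)
  have hstab : 56 ∣ Nat.card (MulAction.stabilizer C.H F.pt) := by
    rw [show (56 : ℕ) = 8 * 7 by norm_num]
    refine Nat.Coprime.mul_dvd_of_dvd_of_dvd (by norm_num) ?_ ?_
    · let f : (F.S : Subgroup G) →* MulAction.stabilizer C.H F.pt :=
        { toFun := fun b => ⟨⟨b, S_le_H C b.2⟩, (F.smul_pt_iff b).mpr (F.S_le b.2)⟩
          map_one' := rfl
          map_mul' := fun _ _ => rfl }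
      rw [← F.card_S]
      exact Subgroup.card_dvd_of_injective f fun x y h => Subtype.ext (congrArg (fun z => ((z.1 : C.H) : G)) h)
    · have h : (⟨C.p, hp⟩ : C.H) ∈ MulAction.stabilizer C.H F.pt := (F.smul_pt_iff C.p).mpr C.p_mem
      have h' := Subgroup.orderOf_dvd_natCard _ h
      rwa [Subgroup.orderOf_mk, C.hp] at h'
  have horb : ∀ i : Fin 9, C.φ i ∈ MulAction.orbit C.H F.pt := by
    have h1 : C.φ 1 ∈ MulAction.orbit C.H F.pt := ⟨⟨C.t, ht⟩, by
      show C.t • F.pt = C.φ 1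
      rw [← C.zero, C.act_t]; rfl⟩
    have h2 : ∀ n : ℕ, C.φ (permP^[n] 2) ∈ MulAction.orbit C.H F.pt := by
      intro n
      induction n with
      | zero =>
        obtain ⟨g, hg⟩ := h1
        refine ⟨⟨C.a, ha⟩ * g, ?_⟩
        show (⟨C.a, ha⟩ * g : C.H) • F.pt = _
        rw [mul_smul, show g • F.pt = C.φ 1 from hg]
        exact C.act_a 1
      | succ n ih =>
        obtain ⟨g, hg⟩ := ih
        refine ⟨⟨C.p, hp⟩ * g, ?_⟩
        show (⟨C.p, hp⟩ * g : C.H) • F.pt = _
        rw [mul_smul, show g • F.pt = C.φ (permP^[n] 2) from hg, Function.iterate_succ_apply']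
        exact C.act_p _
    intro i
    fin_cases i
    · exact ⟨1, by show (1 : C.H) • F.pt = C.φ 0; rw [one_smul, C.zero]⟩
    · exact h1
    · exact h2 0
    · exact h2 1
    · exact h2 2
    · exact h2 3
    · exact h2 4
    · exact h2 5
    · exact h2 6
  have h9 : 9 ≤ (MulAction.orbit C.H F.pt).ncard := by
    rw [← Nat.card_coe_set_eq]
    refine le_trans (le_of_eq (by simp)) (Nat.card_le_card_of_injective (fun i : Fin 9 =>
      (⟨C.φ i, horb i⟩ : MulAction.orbit C.H F.pt)) fun i j h => C.bij.1 (congrArg Subtype.val h))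
  have h := (MulAction.stabilizer C.H F.pt).card_mul_index
  rw [MulAction.index_stabilizer] at h
  rw [← h]
  exact le_trans (by norm_num) (Nat.mul_le_mul (Nat.le_of_dvd Nat.card_pos hstab) h9)

include C in
theorem inv_mem_normal {K : Subgroup G} (hKn : K.Normal) {t : G} (ht : t ∈ K) (ht2 : t * t = 1) (ht1 : t ≠ 1)
    {s : G} (hs : s * s = 1) (hs1 : s ≠ 1) : s ∈ K := by
  obtain ⟨g, rfl⟩ := F.conj_J ht2 ht1
  obtain ⟨k, rfl⟩ := F.conj_J hs hs1
  have := hKn.conj_mem _ ht (k * g⁻¹)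
  rwa [show k * g⁻¹ * (g * F.J * g⁻¹) * (k * g⁻¹)⁻¹ = k * F.J * k⁻¹ by group] at this

theorem even_of_ne_bot {K : Subgroup G} (hK : K ≠ ⊥) (hS : ∀ a ∈ F.S, ∀ k ∈ K, a * k * a⁻¹ ∈ K) :
    ∃ t ∈ K, t * t = 1 ∧ t ≠ 1 := by
  haveI : Fact (Nat.Prime 2) := ⟨Nat.prime_two⟩
  have h2 : 2 ∣ Nat.card K := by
    rw [← even_iff_two_dvd, ← Nat.not_odd_iff_even]
    exact fun h => hK (F.odd_normalized h hS)
  obtain ⟨⟨t, htK⟩, ht⟩ := exists_prime_orderOf_dvd_card' 2 h2
  rw [Subgroup.orderOf_mk] at ht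
  refine ⟨t, htK, ?_, fun e => ?_⟩
  · rw [← pow_two, ← ht, pow_orderOf_eq_one]
  · rw [e, orderOf_one] at ht; norm_num at ht

include C in
theorem exists_simple_normal (hG : Nat.card G = 1512) (h2 : ∀ N : Subgroup G, N.Normal → N.index ≠ 2) :
    ∃ K : Subgroup G, K.Normal ∧ IsSimpleGroup K ∧ Nat.card K = 504 ∧ (F.S : Subgroup G) ≤ K ∧ C.p ∈ K := by
  have hidx : C.H.index ≤ 3 := by
    have h := C.H.card_mul_index
    rw [hG] at h
    nlinarith [card_H C]
  set K0 := C.H.normalCore with hK0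
  have hK0top : K0 ≠ ⊤ := fun h => H_ne_top C (top_le_iff.mp (h ▸ normalCore_le C.H))
  have hK0bot : K0 ≠ ⊥ := by
    intro h
    have hdvd : Nat.card G ∣ Nat.factorial C.H.index := by
      have hker : (MulAction.toPermHom G (G ⧸ C.H)).ker = ⊥ := by rw [← normalCore_eq_ker, ← hK0, h]
      have h' := Subgroup.card_dvd_of_injective _ ((MonoidHom.ker_eq_bot_iff _).mp hker)
      rwa [Nat.card_perm] at h'
    have h6 : Nat.factorial C.H.index ≤ 6 :=
      (Nat.factorial_le hidx).trans (le_of_eq (by rfl))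
    have := Nat.le_of_dvd (Nat.factorial_pos _) hdvd
    omega
  have hK0n : K0.Normal := normalCore_normal C.H
  obtain ⟨t, htK, ht2, ht1⟩ := even_of_ne_bot (F := F) hK0bot fun a _ k hk => hK0n.conj_mem k hk a
  have hall : ∀ s : G, s * s = 1 → s ≠ 1 → s ∈ K0 := fun s hs hs1 => inv_mem_normal C hK0n htK ht2 ht1 hs hs1
  have hgen : ∀ {K : Subgroup G}, (∀ s : G, s * s = 1 → s ≠ 1 → s ∈ K) → C.H ≤ K := by
    intro K hK
    have htne : C.t ≠ 1 := fun e => by
      have h := C.act_t 0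
      rw [e, one_smul] at h
      exact absurd (C.bij.1 h) (by decide)
    have htp2 : (C.t * C.p) * (C.t * C.p) = 1 := by
      rw [show C.t * C.p * (C.t * C.p) = C.t * C.p * C.t * C.p by group, C.htp, inv_mul_cancel]
    have htp1 : C.t * C.p ≠ 1 := fun e => by
      have h := C.act_t (permP 0)
      rw [← C.act_p 0, smul_smul, e, one_smul] at h
      exact absurd (C.bij.1 h) (by decide)
    refine (closure_le K).mpr ?_
    rintro x (rfl | rfl | rfl)
    · have := mul_mem (hK _ C.ht htne) (hK _ htp2 htp1)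
      rwa [← mul_assoc, C.ht, one_mul] at this
    · exact hK _ (F.sq _ C.ha) C.ha1
    · exact hK _ C.ht htne
  have hHK : C.H = K0 := le_antisymm (hgen hall) (normalCore_le C.H)
  have hcard : Nat.card K0 = 504 := by
    have h := K0.card_mul_index
    have h504 := card_H C
    rw [hHK] at h504 hidx
    rw [hG] at h
    rcases (show K0.index = 0 ∨ K0.index = 1 ∨ K0.index = 2 ∨ K0.index = 3 by omega) with e | e | e | e
    · rw [e] at h; omega
    · exact absurd (index_eq_one.mp e) hK0top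
    · exact absurd e (h2 K0 hK0n)
    · rw [e] at h; omega
  refine ⟨K0, hK0n, ?_, hcard, hHK ▸ S_le_H C, hHK ▸ subset_closure (by simp)⟩
  haveI : Nontrivial K0 := Finite.one_lt_card_iff_nontrivial.mp (by rw [hcard]; norm_num)
  refine { eq_bot_or_eq_top_of_normal := fun L hL => ?_ }
  by_cases hLbot : L = ⊥
  · exact Or.inl hLbot
  right
  set L' := L.map K0.subtype with hL'
  have hL'K : L' ≤ K0 := map_subtype_le L
  have hL'bot : L' ≠ ⊥ := fun e => hLbot ((map_eq_bot_iff_of_injective L K0.subtype_injective).mp e)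
  have hconj : ∀ g ∈ K0, ∀ k ∈ L', g * k * g⁻¹ ∈ L' := by
    rintro g hg _ ⟨k, hk, rfl⟩
    exact ⟨⟨g, hg⟩ * k * ⟨g, hg⟩⁻¹, hL.conj_mem k hk _, rfl⟩
  have hSK : (F.S : Subgroup G) ≤ K0 := hHK ▸ S_le_H C
  have hpK : C.p ∈ K0 := hHK ▸ subset_closure (by simp)
  obtain ⟨s, hsL, hs2, hs1⟩ := even_of_ne_bot (F := F) hL'bot fun a ha k hk => hconj a (hSK ha) k hk
  -- all involutions are conjugate inside the normal subgroup
  have key : ∀ w : G, w * w = 1 → w ≠ 1 → ∃ g ∈ K0, g * C.a * g⁻¹ = w := by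
    intro w hw hw1
    obtain ⟨g, rfl⟩ := F.conj_J hw hw1
    obtain ⟨i, hi⟩ := C.bij.2 (g • F.pt)
    have hmem : ∃ k ∈ K0, k • F.pt = g • F.pt := by
      have hfix : ∀ n : ℕ, ∃ k ∈ K0, k • F.pt = C.φ (permP^[n] 2) := by
        intro n
        induction n with
        | zero =>
          refine ⟨C.a * C.t, hHK ▸ mul_mem (subset_closure (by simp)) (subset_closure (by simp)), ?_⟩
          rw [← C.zero, mul_smul, C.act_t, C.act_a]; rfl
        | succ n ih =>
          obtain ⟨k, hk, hk'⟩ := ih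
          exact ⟨C.p * k, mul_mem hpK hk, by rw [mul_smul, hk', C.act_p, Function.iterate_succ_apply']⟩
      rw [← hi]
      fin_cases i
      · exact ⟨1, one_mem _, by rw [one_smul]; exact C.zero.symm⟩
      · exact ⟨C.t, hHK ▸ subset_closure (by simp), by rw [← C.zero, C.act_t]; rfl⟩
      · exact hfix 0
      · exact hfix 1
      · exact hfix 2
      · exact hfix 3
      · exact hfix 4
      · exact hfix 5
      · exact hfix 6
    obtain ⟨k, hk, hkg⟩ := hmem
    have hn : k⁻¹ * g ∈ F.N := by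
      rw [← F.smul_pt_iff, mul_smul, ← hkg, inv_smul_smul]
    have hb : (k⁻¹ * g) * F.J * (k⁻¹ * g)⁻¹ ∈ F.S := (mem_normalizer_iff.mp hn _).mp F.mem
    have hb1 : (k⁻¹ * g) * F.J * (k⁻¹ * g)⁻¹ ≠ 1 := fun e => F.ne (by
      calc F.J = (k⁻¹ * g)⁻¹ * ((k⁻¹ * g) * F.J * (k⁻¹ * g)⁻¹) * (k⁻¹ * g) := by group
      _ = 1 := by rw [e, mul_one, inv_mul_cancel])
    obtain ⟨n, hn'⟩ := C.gen _ hb hb1
    refine ⟨k * C.p ^ n, mul_mem hk (pow_mem hpK n), ?_⟩
    calc k * C.p ^ n * C.a * (k * C.p ^ n)⁻¹ = k * (C.p ^ n * C.a * (C.p ^ n)⁻¹) * k⁻¹ := by group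
    _ = g * F.J * g⁻¹ := by rw [hn']; group
  have hallL : ∀ w : G, w * w = 1 → w ≠ 1 → w ∈ L' := by
    intro w hw hw1
    obtain ⟨g, hg, rfl⟩ := key w hw hw1
    obtain ⟨k, hk, rfl⟩ := key s hs2 hs1
    have := hconj (g * k⁻¹) (mul_mem hg (inv_mem hk)) _ hsL
    rwa [show g * k⁻¹ * (k * C.a * k⁻¹) * (g * k⁻¹)⁻¹ = g * C.a * g⁻¹ by group] at this
  rw [eq_top_iff]
  intro x _
  obtain ⟨y, hy, hyx⟩ := (hgen hallL) (show (x : G) ∈ C.H by rw [hHK]; exact x.2)
  rwa [← (K0.subtype_injective hyx)]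

end Four

/-- The identification. -/
theorem iso_aut_psl {J : G} {T : Subgroup G} (h : Split J T) (hJ : Cfsg.IsTwoCentralInvolution J)
    (e : T ≃* alternatingGroup (Fin 4)) (h2 : ∀ N : Subgroup G, N.Normal → N.index ≠ 2)
    (hns : ¬ Group.IsSolvable G) :
    ∃ (K : Type) (_ : Field K) (_ : Fintype K), Fintype.card K = 8 ∧
      Nonempty (G ≃* MulAut (Matrix.ProjectiveSpecialLinearGroup (Fin 2) K)) := by
  obtain ⟨F, -⟩ := exists_four h hJ e h2
  obtain ⟨⟨C⟩, hG⟩ := F.exists_coords hns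
  obtain ⟨K, hKn, hKs, hK, hSK, hpK⟩ := Four.exists_simple_normal C hG h2
  haveI := hKn
  haveI := hKs
  haveI : Fact (Nat.Prime 2) := ⟨Nat.prime_two⟩
  letI := Fintype.ofFinite (GaloisField 2 3)
  have h8 : Fintype.card (GaloisField 2 3) = 8 := by
    rw [← Nat.card_eq_fintype_card, GaloisField.card 2 3 (by norm_num)]; norm_num
  refine ⟨GaloisField 2 3, inferInstance, inferInstance, h8, ?_⟩
  obtain ⟨ψ⟩ := Cfsg.Agent.S1011.result (G := K) hK (F := GaloisField 2 3) h8
  set f : G →* MulAut (Matrix.ProjectiveSpecialLinearGroup (Fin 2) (GaloisField 2 3)) :=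
    (MulAut.congr ψ).toMonoidHom.comp MulAut.conjNormal with hf
  have hinj : Function.Injective f := by
    refine (MulAut.congr ψ).injective.comp ((injective_iff_map_eq_one _).mpr fun g hg => ?_)
    have hc : ∀ k ∈ K, g * k * g⁻¹ = k := fun k hk => by
      have := MulEquiv.congr_fun hg ⟨k, hk⟩
      exact congrArg Subtype.val this
    have hgS : g ∈ F.S := F.self (mem_centralizer_iff.mpr fun s hs =>
      (mul_inv_eq_iff_eq_mul.mp (hc s (hSK hs))).symm)
    by_contra hg1
    exact F.no_fix7 C.hp hgS hg1 (mul_inv_eq_iff_eq_mul.mp (hc _ hpK)).symm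
  have hcard : Nat.card (MulAut (Matrix.ProjectiveSpecialLinearGroup (Fin 2) (GaloisField 2 3))) = 1512 := by
    rw [Cfsg.Agent.S0813.result 2 3 (by norm_num) (by rw [h8]; norm_num) 2 le_rfl (fun _ => by norm_num),
      if_pos rfl, Cfsg.Agent.S0265.result, CfsgLib.Classical.Linear.card_sl_two, h8]
    norm_num
  exact ⟨MulEquiv.ofBijective f ((Nat.bijective_iff_injective_and_card f).mpr ⟨hinj, by rw [hG, hcard]⟩)⟩

end CfsgLib.TwoAlt
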