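import Cfsg.Agent.TwoAlt.Order
import Cfsg.Agent.TwoAlt.Model
import Cfsg.Agent.S1011
import Cfsg.Agent.S0813
import Cfsg.Agent.S0265
import Cfsg.Agent.Classical.Linear.Card
import Mathlib.FieldTheory.Finite.GaloisField

/-!
A non-solvable group with an involution centralizer `2 × A₄` is the automorphism group of `PSL(2, 8)`.
-/

set_option autoImplicit false
set_option linter.style.haveILetI false
set_option linter.unusedSectionVars false

namespace CfsgLib.TwoAlt

open Subgroup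

universe u

variable {G : Type u} [Group G] [Finite G]

namespace Four

variable (F : Four G)

include F in
theorem no_fix7 {q a : G} (hq : orderOf q = 7) (ha : a ∈ F.S) (ha1 : a ≠ 1) : q * a ≠ a * q := by
  intro h
  obtain ⟨n, -, hn⟩ := F.one_class a ha ha1
  have h8 : n⁻¹ * q * n ∈ centralizer ({F.J} : Set G) := mem_centralizer_singleton_iff.mpr (by
    calc n⁻¹ * q * n * F.J = n⁻¹ * (q * (n * F.J * n⁻¹)) * n := by group
    _ = n⁻¹ * ((n * F.J * n⁻¹) * q) * n := by rw [hn, h]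
    _ = F.J * (n⁻¹ * q * n) := by group)
  have h9 := Subgroup.orderOf_dvd_natCard _ h8
  rw [show n⁻¹ * q * n = n⁻¹ * q * n⁻¹⁻¹ by rw [inv_inv], orderOf_conj', hq, F.card_C] at h9
  norm_num at h9

include F in
theorem exists_fixed3 {y : G} (hy : y ∈ F.N) (hy3 : orderOf y = 3) :
    ∃ a ∈ F.S, a ≠ 1 ∧ y * a * y⁻¹ = a := by
  classical
  letI := Fintype.ofFinite G
  haveI : Fact (Nat.Prime 3) := ⟨Nat.prime_three⟩
  let σ : Equiv.Perm (F.S : Subgroup G) :=
    (MulAut.conj y).toEquiv.subtypeEquiv fun a => mem_normalizer_iff.mp hy a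
  have hσ : σ ^ 3 ^ 1 = 1 := by
    refine Equiv.ext fun a => Subtype.ext ?_
    show ((σ ^ 3) a : G) = a
    rw [pow_succ, pow_two, Equiv.Perm.mul_apply, Equiv.Perm.mul_apply]
    show y * (y * (y * (a : G) * y⁻¹) * y⁻¹) * y⁻¹ = a
    have h3 : y * y * y = 1 := by rw [← pow_three', ← hy3, pow_orderOf_eq_one]
    calc y * (y * (y * (a : G) * y⁻¹) * y⁻¹) * y⁻¹ = (y * y * y) * a * (y * y * y)⁻¹ := by group
    _ = a := by rw [h3]; group
  have hmod := Equiv.Perm.card_compl_support_modEq hσ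
  rw [← Nat.card_eq_fintype_card, F.card_S] at hmod
  have h2 : 1 < σ.supportᶜ.card := by
    have h3 : σ.supportᶜ.card % 3 = 2 := hmod
    omega
  obtain ⟨⟨a, haS⟩, ha, ha1⟩ := Finset.exists_mem_ne h2 1
  rw [Finset.mem_compl, Equiv.Perm.notMem_support] at ha
  exact ⟨a, haS, fun e => ha1 (Subtype.ext e), congrArg Subtype.val ha⟩

include F in
/-- A subgroup of odd order normalized by the Sylow subgroup is trivial. -/
theorem odd_normalized {K : Subgroup G} (hK : Odd (Nat.card K))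
    (hS : ∀ a ∈ F.S, ∀ k ∈ K, a * k * a⁻¹ ∈ K) : K = ⊥ := by
  have hKS : ∀ x ∈ K, x ∈ F.S → x = 1 := by
    intro x hxK hxS
    have d1 := Subgroup.orderOf_dvd_natCard _ hxK
    have d2 : orderOf x ∣ 8 := F.card_S ▸ Subgroup.orderOf_dvd_natCard _ hxS
    refine orderOf_eq_one_iff.mp (Nat.Coprime.eq_one_of_dvd ?_ d1)
    refine Nat.Coprime.coprime_dvd_left d2 ?_
    rw [show (8 : ℕ) = 2 ^ 3 by norm_num]
    exact Nat.Coprime.pow_left 3 (Nat.coprime_two_left.mpr hK)
  have hKN : ∀ x ∈ K, x ∈ F.N → x = 1 := by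
    intro x hx hxN
    have hc : x ∈ centralizer ((F.S : Subgroup G) : Set G) := by
      rw [mem_centralizer_iff]
      intro a ha
      have h1 : a * x * a⁻¹ * x⁻¹ ∈ K := mul_mem (hS a ha x hx) (inv_mem hx)
      have h2 : a * x * a⁻¹ * x⁻¹ ∈ (F.S : Subgroup G) := by
        rw [show a * x * a⁻¹ * x⁻¹ = a * (x * a⁻¹ * x⁻¹) by group]
        exact mul_mem ha ((mem_normalizer_iff.mp hxN _).mp (inv_mem ha))
      have h3 := hKS _ h1 h2
      rwa [mul_inv_eq_one, mul_inv_eq_iff_eq_mul] at h3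
    exact hKS x hx (F.self hc)
  have hinv : ∀ a ∈ F.S, a ≠ 1 → ∀ k ∈ K, a * k * a = k⁻¹ := by
    intro a ha ha1 k hk
    have ai : a⁻¹ = a := inv_eq_of_mul_eq_one_right (F.sq a ha)
    let f : K → K := fun x => ⟨(x : G)⁻¹ * (a * x * a), mul_mem (inv_mem x.2) (by
      have := hS a ha x x.2
      rwa [ai] at this)⟩
    have hf : Function.Injective f := by
      intro x y hxy
      have h : (x : G)⁻¹ * (a * x * a) = (y : G)⁻¹ * (a * y * a) := congrArg Subtype.val hxy
      have hc : ((y : G) * (x : G)⁻¹) * a = a * ((y : G) * (x : G)⁻¹) := by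
        calc ((y : G) * (x : G)⁻¹) * a = (y : G) * ((x : G)⁻¹ * (a * x * a)) * a⁻¹ * (x : G)⁻¹ := by group
        _ = (y : G) * ((y : G)⁻¹ * (a * y * a)) * a⁻¹ * (x : G)⁻¹ := by rw [h]
        _ = a * ((y : G) * (x : G)⁻¹) := by group
      exact Subtype.ext (mul_inv_eq_one.mp (hKN _ (mul_mem y.2 (inv_mem x.2)) (F.cent_le' ha ha1 hc))).symm
    obtain ⟨x, hx⟩ := Finite.injective_iff_surjective.mp hf ⟨k, hk⟩
    have hx' : (x : G)⁻¹ * (a * x * a) = k := congrArg Subtype.val hx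
    rw [← hx']
    calc a * ((x : G)⁻¹ * (a * x * a)) * a = (a * (x : G)⁻¹ * a⁻¹) * (a * a) * x * (a * a) := by group
    _ = a * (x : G)⁻¹ * a⁻¹ * x := by rw [F.sq a ha, mul_one, mul_one]
    _ = ((x : G)⁻¹ * (a * x * a))⁻¹ := by rw [mul_inv_rev, mul_inv_rev, mul_inv_rev, inv_inv, ai]; group
  rw [eq_bot_iff]
  intro k hk
  rw [mem_bot]
  have hS8 := F.card_S
  classical
  letI := Fintype.ofFinite (F.S : Subgroup G)
  rw [Nat.card_eq_fintype_card] at hS8
  obtain ⟨a, b, c, hab, hac, hbc⟩ := Fintype.two_lt_card_iff.mp (by omega : 2 < Fintype.card (F.S : Subgroup G))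
  obtain ⟨r, s, hr, hs, hrs⟩ : ∃ r s : (F.S : Subgroup G), r ≠ 1 ∧ s ≠ 1 ∧ r ≠ s := by
    by_cases ha : a = 1
    · exact ⟨b, c, fun e => hab (ha.trans e.symm), fun e => hac (ha.trans e.symm), hbc⟩
    · by_cases hb : b = 1
      · exact ⟨a, c, ha, fun e => hbc (hb.trans e.symm), hac⟩
      · exact ⟨a, b, ha, hb, hab⟩
  have hr' : (r : G) ≠ 1 := fun e => hr (Subtype.ext e)
  have hs' : (s : G) ≠ 1 := fun e => hs (Subtype.ext e)
  have hrs' : (r : G) * s ≠ 1 := fun e => hrs (Subtype.ext (by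
    rw [eq_inv_of_mul_eq_one_left e]; exact inv_eq_of_mul_eq_one_right (F.sq _ s.2)))
  have h1 := hinv _ (mul_mem r.2 s.2) hrs' k hk
  have h2 : (r : G) * s * k * ((r : G) * s) = k := by
    calc (r : G) * s * k * ((r : G) * s) = r * (s * k * (s * r)) := by
          rw [F.comm r.2 s.2]; nth_rw 1 [← F.comm r.2 s.2]; group
    _ = r * (s * k * s) * r := by group
    _ = k := by
      rw [hinv _ s.2 hs' k hk, hinv _ r.2 hr' k⁻¹ (inv_mem hk), inv_inv]
  rw [h2] at h1
  have h3 : orderOf k ∣ 2 := orderOf_dvd_of_pow_eq_one (by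
    rw [pow_two]; nth_rw 1 [h1]; exact inv_mul_cancel k)
  rcases (Nat.dvd_prime Nat.prime_two).mp h3 with e | e
  · exact orderOf_eq_one_iff.mp e
  · exact absurd (hK.of_dvd_nat (Subgroup.orderOf_dvd_natCard _ hk)) (by rw [e]; decide)

/-- coordinates on the nine points -/
structure Coords where
  /-- the element of order seven -/
  p : G
  /-- an involution fixing the first point -/
  a : G
  /-- an involution exchanging the first two points -/
  t : G
  /-- an element of order three -/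
  y : G
  /-- its exponent -/
  r : ℕ
  /-- the coordinates -/
  φ : Fin 9 → G ⧸ F.N
  bij : Function.Bijective φ
  hr : r = 2 ∨ r = 4
  hp : orderOf p = 7
  ha : a ∈ F.S
  ha1 : a ≠ 1
  ht : t * t = 1
  htp : t * p * t = p⁻¹
  p_mem : p ∈ F.N
  zero : φ 0 = F.pt
  act_p : ∀ i, p • φ i = φ (permP i)
  act_a : ∀ i, a • φ i = φ (permA i)
  act_t : ∀ i, t • φ i = φ (permT i)
  act_y : ∀ i, y • φ i = φ (permY r i)
  gen : ∀ b ∈ F.S, b ≠ 1 → ∃ i : ℕ, p ^ i * a * (p ^ i)⁻¹ = b

theorem exists_coords (hns : ¬ Group.IsSolvable G) : Nonempty F.Coords ∧ Nat.card G = 1512 := by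
  classical
  obtain ⟨W⟩ := F.exists_geometry hns
  refine ⟨?_, W.card_G⟩
  haveI : Fact (Nat.Prime 3) := ⟨Nat.prime_three⟩
  set D := MulAction.stabilizer G F.pt ⊓ MulAction.stabilizer G W.b with hD
  obtain ⟨⟨y, hyD⟩, hy⟩ := exists_prime_orderOf_dvd_card' (G := D) 3 (by rw [W.card_stab]; norm_num)
  rw [Subgroup.orderOf_mk] at hy
  have hyN : y ∈ F.N := (F.smul_pt_iff y).mp (mem_inf.mp hyD).1
  obtain ⟨a, ha, ha1, hya⟩ := F.exists_fixed3 hyN hy
  have hconjS : ∀ {g b : G}, g ∈ F.N → b ∈ F.S → g * b * g⁻¹ ∈ F.S := fun hg hb =>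
    (mem_normalizer_iff.mp hg _).mp hb
  have hinjS : ∀ q : G, orderOf q = 7 → ∀ i j : ℕ, i < 7 → j < 7 →
      q ^ i * a * (q ^ i)⁻¹ = q ^ j * a * (q ^ j)⁻¹ → i = j := by
    intro q hq
    have main : ∀ i d : ℕ, i + d < 7 → q ^ i * a * (q ^ i)⁻¹ = q ^ (i + d) * a * (q ^ (i + d))⁻¹ → d = 0 := by
      intro i d hd heq
      by_contra hd0
      have h1 : q ^ d * a = a * q ^ d := by
        calc q ^ d * a = (q ^ i)⁻¹ * (q ^ (i + d) * a * (q ^ (i + d))⁻¹) * q ^ i * q ^ d := by
              rw [pow_add]; group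
        _ = (q ^ i)⁻¹ * (q ^ i * a * (q ^ i)⁻¹) * q ^ i * q ^ d := by rw [heq]
        _ = a * q ^ d := by group
      refine F.no_fix7 ?_ ha ha1 h1
      rw [orderOf_pow, hq, Nat.Coprime.gcd_eq_one, Nat.div_one]
      exact (Nat.Prime.coprime_iff_not_dvd (by norm_num)).mpr fun h => by
        have := Nat.le_of_dvd (by omega) h; omega
    intro i j hi hj heq
    rcases le_total i j with h | h
    · obtain ⟨d, rfl⟩ := Nat.exists_eq_add_of_le h
      rw [main i d hj heq, add_zero]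
    · obtain ⟨d, rfl⟩ := Nat.exists_eq_add_of_le h
      rw [main j d hi heq.symm, add_zero]
  have hsurjS : ∀ q : G, orderOf q = 7 → q ∈ F.N → ∀ b ∈ F.S, b ≠ 1 →
      ∃ i : ℕ, i < 7 ∧ q ^ i * a * (q ^ i)⁻¹ = b := by
    intro q hq hqN b hb hb1
    let f : Option (Fin 7) → (F.S : Subgroup G) := fun o => match o with
      | none => 1
      | some i => ⟨q ^ (i : ℕ) * a * (q ^ (i : ℕ))⁻¹, hconjS (pow_mem hqN _) ha⟩
    have hne : ∀ i : ℕ, q ^ i * a * (q ^ i)⁻¹ ≠ 1 := fun i e => ha1 (by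
      calc a = (q ^ i)⁻¹ * (q ^ i * a * (q ^ i)⁻¹) * q ^ i := by group
      _ = 1 := by rw [e, mul_one, inv_mul_cancel])
    have hf : Function.Injective f := by
      intro o o' h
      match o, o' with
      | none, none => rfl
      | none, some j => exact absurd (congrArg Subtype.val h).symm (hne j)
      | some i, none => exact absurd (congrArg Subtype.val h) (hne i)
      | some i, some j => rw [Fin.ext (hinjS q hq i j i.2 j.2 (congrArg Subtype.val h))]
    obtain ⟨o, ho⟩ := ((Nat.bijective_iff_injective_and_card f).mpr ⟨hf, by rw [F.card_S]; simp⟩).2 ⟨b, hb⟩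
    match o with
    | none => exact absurd (congrArg Subtype.val ho).symm hb1
    | some i => exact ⟨i, i.2, congrArg Subtype.val ho⟩
  obtain ⟨p, hp, hpa, hpb, hpR⟩ : ∃ p : G, orderOf p = 7 ∧ p • F.pt = F.pt ∧ p • W.b = W.b ∧
      a * (p * a * p⁻¹) = p ^ 3 * a * (p ^ 3)⁻¹ := by
    set q := W.p with hq0
    have hq := W.order_p
    rw [← hq0] at hq
    have hqN : q ∈ F.N := (F.smul_pt_iff q).mp W.p_pt
    set s : ℕ → G := fun i => q ^ i * a * (q ^ i)⁻¹ with hs
    have hsS : ∀ i, s i ∈ F.S := fun i => hconjS (pow_mem hqN _) ha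
    have s0 : s 0 = a := by simp [hs]
    have s1 : s 1 = q * a * q⁻¹ := by simp [hs]
    have hq7 : q ^ 7 = 1 := by rw [← hq, pow_orderOf_eq_one]
    have per : ∀ i, s (i + 7) = s i := fun i => by simp [hs, pow_add, hq7]
    have hne : a * (q * a * q⁻¹) ≠ 1 := by
      intro e
      have h1 : s 0 = s 1 := s0.trans (((eq_inv_of_mul_eq_one_left e).trans
        (inv_eq_of_mul_eq_one_right (F.sq _ (hconjS hqN ha)))).trans s1.symm)
      exact absurd (hinjS q hq 0 1 (by norm_num) (by norm_num) h1) (by norm_num)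
    obtain ⟨k, hk7, hk⟩ := hsurjS q hq hqN _ (mul_mem ha (hconjS hqN ha)) hne
    have rel : ∀ i, s i * s (i + 1) = s (i + k) := by
      intro i
      show q ^ i * a * (q ^ i)⁻¹ * (q ^ (i + 1) * a * (q ^ (i + 1))⁻¹) = q ^ (i + k) * a * (q ^ (i + k))⁻¹
      rw [pow_succ, pow_add]
      calc q ^ i * a * (q ^ i)⁻¹ * (q ^ i * q * a * (q ^ i * q)⁻¹)
          = q ^ i * (a * (q * a * q⁻¹)) * (q ^ i)⁻¹ := by group
      _ = q ^ i * q ^ k * a * (q ^ i * q ^ k)⁻¹ := by rw [← hk]; group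
    have sq : ∀ i, s i * s i = 1 := fun i => F.sq _ (hsS i)
    have canc : ∀ i j, s i * (s i * s j) = s j := fun i j => by rw [← mul_assoc, sq, one_mul]
    have hcm : ∀ i j, s i * s j = s j * s i := fun i j => F.comm (hsS i) (hsS j)
    have inj : ∀ i j, i < 7 → j < 7 → s i = s j → i = j := hinjS q hq
    have hk35 : k = 3 ∨ k = 5 := by
      by_contra hcon
      push Not at hcon
      have r0 := rel 0
      have r1 := rel 1
      have r2 := rel 2
      have r3 := rel 3
      rcases (show k = 0 ∨ k = 1 ∨ k = 2 ∨ k = 4 ∨ k = 6 by omega) with rfl | rfl | rfl | rfl | rfl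
      · have h : s 1 = 1 := by
          calc s 1 = s 0 * (s 0 * s (0 + 1)) := (canc 0 1).symm
          _ = 1 := by rw [r0]; exact sq 0
        exact absurd h (by
          rw [s1]; intro e; exact ha1 (by
            calc a = q⁻¹ * (q * a * q⁻¹) * q := by group
            _ = 1 := by rw [e, mul_one, inv_mul_cancel]))
      · have h : s 0 = 1 := by
          calc s 0 = s 0 * (s 1 * s 1) := by rw [sq, mul_one]
          _ = (s 0 * s (0 + 1)) * s 1 := (mul_assoc _ _ _).symm
          _ = 1 := by rw [r0]; exact sq 1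
        exact ha1 (s0.symm.trans h)
      · have h : s 3 = s 0 := by
          rw [← r1, ← r0]
          show s 1 * (s 0 * s 1) = s 0
          rw [hcm 0 1, canc]
        exact absurd (inj 3 0 (by norm_num) (by norm_num) h) (by norm_num)
      · have h : s 1 = s 3 := by
          have h0 : s 3 * (s 0 * s 1) = s 0 := by
            rw [r0]; exact r3.trans (per 0)
          calc s 1 = s 0 * (s 0 * s 1) := (canc 0 1).symm
          _ = (s 3 * (s 0 * s 1)) * (s 0 * s 1) := by rw [h0]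
          _ = s 3 * ((s 0 * s 1) * (s 0 * s 1)) := by rw [mul_assoc]
          _ = s 3 := by rw [r0, sq, mul_one]
        exact absurd (inj 1 3 (by norm_num) (by norm_num) h) (by norm_num)
      · have h : s 2 = s 6 := by
          have h0 : s 1 * s 2 = s 0 := r1.trans (per 0)
          calc s 2 = s 1 * (s 1 * s 2) := (canc 1 2).symm
          _ = s 0 * s 1 := by rw [h0, hcm]
          _ = s 6 := r0
        exact absurd (inj 2 6 (by norm_num) (by norm_num) h) (by norm_num)
    rcases hk35 with rfl | rfl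
    · exact ⟨q, hq, W.p_pt, W.p_b, hk.symm⟩
    · refine ⟨q⁻¹, by rw [orderOf_inv]; exact hq, inv_smul_eq_iff.mpr W.p_pt.symm,
        inv_smul_eq_iff.mpr W.p_b.symm, ?_⟩
      have e1 : q⁻¹ = q ^ 6 := inv_eq_of_mul_eq_one_right (by rw [← pow_succ', hq7])
      have e3 : (q⁻¹) ^ 3 = q ^ 4 := by
        rw [inv_pow]; exact inv_eq_of_mul_eq_one_right (by rw [← pow_add, hq7])
      rw [e3, e1]
      show a * s 6 = s 4
      have h6 : s 6 * s 0 = s 4 := by
        rw [← per 0, ← per 4]; exact rel 6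
      rw [← h6, s0]
      exact F.comm ha (hsS 6)
  have hpN : p ∈ F.N := (F.smul_pt_iff p).mp hpa
  have hp7 : p ^ 7 = 1 := by rw [← hp, pow_orderOf_eq_one]
  set s : ℕ → G := fun i => p ^ i * a * (p ^ i)⁻¹ with hs
  have hsS : ∀ i, s i ∈ F.S := fun i => hconjS (pow_mem hpN _) ha
  have s0 : s 0 = a := by simp [hs]
  have per : ∀ i, s (i % 7) = s i := fun i => by
    simp only [hs]
    rw [← pow_eq_pow_mod i hp7]
  set q : ℕ → G ⧸ F.N := fun i => s i • W.b with hq
  have qper : ∀ i, q (i % 7) = q i := fun i => by simp only [hq, per]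
  have hppow : ∀ i : ℕ, p ^ i • W.b = W.b := fun i =>
    MulAction.mem_stabilizer_iff.mp (pow_mem (MulAction.mem_stabilizer_iff.mpr hpb) i)
  have qeq : ∀ i : ℕ, q i = p ^ i • q 0 := by
    intro i
    show (p ^ i * a * (p ^ i)⁻¹) • W.b = p ^ i • s 0 • W.b
    rw [s0, mul_smul, mul_smul, inv_smul_eq_iff.mpr (hppow i).symm]
  have hSfix : ∀ {c : G}, c ∈ F.S → c • W.b = W.b → c = 1 := by
    intro c hc hcb
    by_contra hc1
    exact W.ne.symm (F.fixed_unique (F.sq c hc) hc1 ((F.smul_pt_iff c).mpr (F.S_le hc)) hcb)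
  have hsne : ∀ i, s i ≠ 1 := fun i e => ha1 (by
    simp only [hs] at e
    calc a = (p ^ i)⁻¹ * (p ^ i * a * (p ^ i)⁻¹) * p ^ i := by group
    _ = 1 := by rw [e, mul_one, inv_mul_cancel])
  have hqb : ∀ i, q i ≠ W.b := fun i e => hsne i (hSfix (hsS i) e)
  have hqpt : ∀ i, q i ≠ F.pt := fun i e => by
    apply W.ne
    have h1 : s i • F.pt = W.b := by
      rw [← e]; show s i • s i • W.b = W.b; rw [smul_smul, F.sq _ (hsS i), one_smul]
    rw [← h1, (F.smul_pt_iff _).mpr (F.S_le (hsS i))]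
  have hqinj : ∀ i j, i < 7 → j < 7 → q i = q j → i = j := by
    intro i j hi hj h
    have h1 : (s i * s j) • W.b = W.b := by
      rw [mul_smul, show s j • W.b = q i from h.symm]
      show s i • s i • W.b = W.b
      rw [smul_smul, F.sq _ (hsS i), one_smul]
    have h2 := hSfix (mul_mem (hsS i) (hsS j)) h1
    exact hinjS p hp i j hi hj (by
      show s i = s j
      rw [eq_inv_of_mul_eq_one_left h2, inv_eq_of_mul_eq_one_right (F.sq _ (hsS j))])
  let φ : Fin 9 → G ⧸ F.N := fun i => if i.val = 0 then F.pt else if i.val = 1 then W.b else q (i.val - 2)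
  have hφpw : ∀ n, φ (pw n) = q n := by
    intro n
    show (if 2 + n % 7 = 0 then F.pt else if 2 + n % 7 = 1 then W.b else q (2 + n % 7 - 2)) = q n
    rw [if_neg (by omega), if_neg (by omega), show 2 + n % 7 - 2 = n % 7 by omega, qper]
  have hinj : Function.Injective φ := by
    intro i j h
    apply Fin.ext
    simp only [φ] at h
    split_ifs at h with h1 h2 h3 h4 h5 h6 h7 h8
    all_goals first
      | omega
      | exact absurd h.symm W.ne
      | exact absurd h W.ne
      | exact absurd h.symm (hqpt _)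
      | exact absurd h (hqpt _)
      | exact absurd h.symm (hqb _)
      | exact absurd h (hqb _)
      | (have := hqinj _ _ (by omega) (by omega) h; omega)
  have hbij : Function.Bijective φ :=
    (Nat.bijective_iff_injective_and_card φ).mpr ⟨hinj, by rw [W.card_pts]; simp⟩
  -- the involution exchanging the two fixed points
  obtain ⟨⟨⟨t0, ht0, ht01⟩, ht0x⟩⟩ : Nonempty {w : Inv G // w.1 • F.pt = W.b} :=
    (Nat.card_pos_iff.mp (show 0 < Nat.card (F.Sw F.pt W.b) by rw [F.swap_card W.ne.symm]; norm_num)).1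
  have ht0p : t0 * p * t0 = p⁻¹ := by
    obtain ⟨-, h⟩ := (F.swap_bound W.ne.symm).2 (F.swap_card W.ne.symm)
    exact h p hp hpa hpb ⟨⟨t0, ht0, ht01⟩, ht0x⟩
  change t0 • F.pt = W.b at ht0x
  have ht0b : t0 • W.b = F.pt := F.swap_symm ht0 ht0x
  obtain ⟨i0, hi0⟩ := hbij.2 (t0 • q 0)
  obtain ⟨c, hc⟩ : ∃ c : ℕ, t0 • q 0 = q c := by
    simp only [φ] at hi0
    split_ifs at hi0 with h1 h2
    · exfalso
      exact hqb 0 (by
        calc q 0 = t0 • t0 • q 0 := by rw [smul_smul, ht0, one_smul]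
        _ = W.b := by rw [← hi0, ht0x])
    · exfalso
      exact hqpt 0 (by
        calc q 0 = t0 • t0 • q 0 := by rw [smul_smul, ht0, one_smul]
        _ = F.pt := by rw [← hi0, ht0b])
    · exact ⟨_, hi0.symm⟩
  have ht0i : t0⁻¹ = t0 := inv_eq_of_mul_eq_one_right ht0
  have hflip : ∀ n : ℕ, t0 * p ^ n * t0 = (p ^ n)⁻¹ := fun n => by
    nth_rw 2 [← ht0i]
    rw [← conj_pow, ht0i, ht0p, inv_pow]
  set t := (p ^ c)⁻¹ * t0 with htdef
  have htt : t * t = 1 := by
    calc t * t = (p ^ c)⁻¹ * (t0 * p ^ c * t0⁻¹)⁻¹ * (t0 * t0) := by rw [htdef]; group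
    _ = 1 := by rw [ht0i, ht0, hflip, inv_inv, inv_mul_cancel, mul_one]
  have htp : t * p * t = p⁻¹ := by
    calc t * p * t = (p ^ c)⁻¹ * (t0 * p * t0) * (t0 * p ^ c * t0⁻¹)⁻¹ * (t0 * t0) := by
          rw [htdef]
          calc (p ^ c)⁻¹ * t0 * p * ((p ^ c)⁻¹ * t0)
              = (p ^ c)⁻¹ * (t0 * p * t0) * (t0⁻¹ * (p ^ c)⁻¹ * t0) := by group
          _ = _ := by rw [ht0i, ht0, mul_one, mul_inv_rev, mul_inv_rev, ht0i, ← mul_assoc t0]
    _ = p⁻¹ := by
      rw [ht0i, ht0, mul_one, hflip, inv_inv, ht0p]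
      exact (show Commute (p ^ c) p⁻¹ from ((Commute.refl p).pow_left c).inv_right).inv_mul_cancel
  have hfix : ∀ i : ℕ, (p ^ i)⁻¹ • F.pt = F.pt ∧ (p ^ i)⁻¹ • W.b = W.b := fun i =>
    ⟨inv_smul_eq_iff.mpr ((F.smul_pt_iff _).mpr (pow_mem hpN i)).symm, inv_smul_eq_iff.mpr (hppow i).symm⟩
  have htpt : t • F.pt = W.b := by rw [htdef, mul_smul, ht0x, (hfix c).2]
  have htb : t • W.b = F.pt := by rw [htdef, mul_smul, ht0b, (hfix c).1]
  have htq0 : t • q 0 = q 0 := by rw [htdef, mul_smul, hc, qeq c, inv_smul_smul]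
  have htq : ∀ n : ℕ, t • q n = q (6 * n) := by
    intro n
    have ti : t⁻¹ = t := inv_eq_of_mul_eq_one_right htt
    have h1 : t * p ^ n = p ^ (6 * n) * t := by
      have h2 : t * p * t⁻¹ = p ^ 6 := by
        rw [ti, htp]; exact inv_eq_of_mul_eq_one_right (by rw [← pow_succ', hp7])
      have h3 : t * p ^ n * t⁻¹ = p ^ (6 * n) := by rw [← conj_pow, h2, ← pow_mul]
      rw [← h3, inv_mul_cancel_right]
    rw [qeq n, qeq (6 * n), smul_smul, h1, mul_smul, htq0]
  -- the exponent of the element of order three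
  obtain ⟨hyx, hyb⟩ := mem_inf.mp hyD
  rw [MulAction.mem_stabilizer_iff] at hyx hyb
  have hpD : p ∈ D := mem_inf.mpr ⟨hpa, hpb⟩
  have hypD : y * p * y⁻¹ ∈ zpowers p := by
    refine mem_zpowers_of_card_lt (D := D) (by rw [W.card_stab]; norm_num) hpD
      (mul_mem (mul_mem hyD hpD) (inv_mem hyD)) hp ?_
    rw [orderOf_conj', hp]
  rw [← (isOfFinOrder_of_finite p).mem_powers_iff_mem_zpowers] at hypD
  obtain ⟨r0, hr0⟩ := hypD
  change p ^ r0 = y * p * y⁻¹ at hr0
  set r := r0 % 7 with hr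
  have hrp : p ^ r = y * p * y⁻¹ := by rw [hr, ← pow_eq_pow_mod r0 hp7, hr0]
  have hr24 : r = 2 ∨ r = 4 := by
    have h3 : y ^ 3 = 1 := by rw [← hy, pow_orderOf_eq_one]
    have h1 : p ^ (r * r * r) = p := by
      rw [pow_mul, pow_mul, hrp, conj_pow, hrp, conj_pow, conj_pow, hrp]
      calc y * (y * (y * p * y⁻¹) * y⁻¹) * y⁻¹ = y ^ 3 * p * (y ^ 3)⁻¹ := by
            rw [pow_succ, pow_two]; group
      _ = p := by rw [h3]; group
    have h2 : r * r * r % 7 = 1 := by
      have := (pow_inj_mod (x := p) (m := 1) (n := r * r * r)).mp (by rw [pow_one, h1])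
      rw [hp] at this
      omega
    have hlt : r < 7 := Nat.mod_lt _ (by norm_num)
    interval_cases r <;> first
      | omega
      | exact absurd (by
          rw [pow_one, eq_mul_inv_iff_mul_eq] at hrp
          exact hrp.symm) (F.not_commute hp hy hpa hyx)
  have hq0y : y • q 0 = q 0 := by
    show y • s 0 • W.b = s 0 • W.b
    rw [s0, smul_smul, mul_inv_eq_iff_eq_mul.mp hya, mul_smul, hyb]
  have hyq : ∀ n : ℕ, y • q n = q (r * n) := by
    intro n
    have h3 : y * p ^ n * y⁻¹ = p ^ (r * n) := by rw [← conj_pow, ← hrp, ← pow_mul]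
    rw [qeq n, qeq (r * n), smul_smul, ← h3]
    conv_rhs => rw [← hq0y, smul_smul, inv_mul_cancel_right]
  have rel : ∀ i, s i * s (i + 1) = s (i + 3) := by
    intro i
    show p ^ i * a * (p ^ i)⁻¹ * (p ^ (i + 1) * a * (p ^ (i + 1))⁻¹) = p ^ (i + 3) * a * (p ^ (i + 3))⁻¹
    rw [pow_succ, pow_add]
    calc p ^ i * a * (p ^ i)⁻¹ * (p ^ i * p * a * (p ^ i * p)⁻¹)
        = p ^ i * (a * (p * a * p⁻¹)) * (p ^ i)⁻¹ := by group
    _ = p ^ i * p ^ 3 * a * (p ^ i * p ^ 3)⁻¹ := by rw [hpR]; group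
  have canc : ∀ i j, s i * (s i * s j) = s j := fun i j => by rw [← mul_assoc, F.sq _ (hsS i), one_mul]
  have hcm : ∀ i j, s i * s j = s j * s i := fun i j => F.comm (hsS i) (hsS j)
  have t1 : s 0 * s 1 = s 3 := rel 0
  have t3 : s 0 * s 3 = s 1 := by rw [← t1, canc]
  have t6 : s 0 * s 2 = s 6 := by
    rw [show s 6 = s 3 * s 4 from (rel 3).symm, show s 4 = s 1 * s 2 from (rel 1).symm, ← t1,
      mul_assoc (s 0) (s 1), canc]
  have t2 : s 0 * s 6 = s 2 := by rw [← t6, canc]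
  have t5 : s 0 * s 4 = s 5 := by
    rw [show s 5 = s 2 * s 3 from (rel 2).symm, show s 4 = s 1 * s 2 from (rel 1).symm, ← mul_assoc, t1]
    exact hcm 3 2
  have t4 : s 0 * s 5 = s 4 := by rw [← t5, canc]
  have haq : ∀ n m : ℕ, s 0 * s n = s m → a • q n = q m := fun n m h => by
    rw [← s0]; show s 0 • s n • W.b = s m • W.b
    rw [smul_smul, h]
  refine ⟨⟨p, a, t, y, r, φ, hbij, hr24, hp, ha, ha1, htt, htp, hpN, rfl, ?_, ?_, ?_, ?_, fun b hb hb1 => ?_⟩⟩
  · have hq1 : ∀ n : ℕ, p • q n = q (n + 1) := fun n => by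
      rw [qeq n, qeq (n + 1), smul_smul, ← pow_succ']
    intro i
    fin_cases i
    · exact hpa
    · exact hpb
    · exact hq1 0
    · exact hq1 1
    · exact hq1 2
    · exact hq1 3
    · exact hq1 4
    · exact hq1 5
    · exact (hq1 6).trans ((qper 7).symm)
  · intro i
    fin_cases i
    · exact (F.smul_pt_iff a).mpr (F.S_le ha)
    · show a • W.b = q 0
      simp only [hq, s0]
    · show a • q 0 = W.b
      show a • s 0 • W.b = W.b
      rw [s0, smul_smul, F.sq a ha, one_smul]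
    · exact haq 1 3 t1
    · exact haq 2 6 t6
    · exact haq 3 1 t3
    · exact haq 4 5 t5
    · exact haq 5 4 t4
    · exact haq 6 2 t2
  · intro i
    fin_cases i
    · exact htpt
    · exact htb
    · exact htq 0
    · exact (htq 1).trans (qper 6).symm
    · exact (htq 2).trans (qper 12).symm
    · exact (htq 3).trans (qper 18).symm
    · exact (htq 4).trans (qper 24).symm
    · exact (htq 5).trans (qper 30).symm
    · exact (htq 6).trans (qper 36).symm
  · intro i
    by_cases h : i.val < 2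
    · rcases (show i = 0 ∨ i = 1 by omega) with rfl | rfl
      · exact hyx
      · exact hyb
    · simp only [permY, h, if_false, hφpw]
      have h0 : φ i = q (i.val - 2) := by
        simp only [φ]; rw [if_neg (by omega), if_neg (by omega)]
      rw [h0, hyq]
  · obtain ⟨i, -, hi⟩ := hsurjS p hp hpN b hb hb1
    exact ⟨i, hi⟩

end Four

end CfsgLib.TwoAlt
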